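import Mathlib
import Cfsg.Prelude.Def_ClassicalGeometry
import Cfsg.Agent.Lib.Helper5.SympBridge

set_option autoImplicit false
open Cfsg

/-!
# Pairs of complementary totally isotropic subspaces of the symplectic space: basics
-/

namespace Cfsg.Agent.Lib.Helper5.SpPairs

open Matrix Module Cfsg.Agent.Lib.Helper5.SympTv Cfsg.Agent.Lib.Helper5.SympGen
  Cfsg.Agent.Lib.Helper5.SympBridge

variable {F : Type*} [Field F] (d : ℕ)

/-- polar pairs -/
def IsPair (P : Submodule F (Fin d ⊕ Fin d → F) × Submodule F (Fin d ⊕ Fin d → F)) : Prop :=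
  IsCompl P.1 P.2 ∧ (∀ u ∈ P.1, ∀ v ∈ P.1, sympForm d F u v = 0) ∧
    (∀ u ∈ P.2, ∀ v ∈ P.2, sympForm d F u v = 0)

theorem finrank_V : finrank F (Fin d ⊕ Fin d → F) = d + d := by
  rw [Module.finrank_fintype_fun_eq_card, Fintype.card_sum, Fintype.card_fin]

theorem finrank_le_of_ti (U : Submodule F (Fin d ⊕ Fin d → F))
    (hU : ∀ u ∈ U, ∀ v ∈ U, sympForm d F u v = 0) : finrank F U ≤ d := by
  have h1 : U ≤ (sympBilin F d).orthogonal U := by
    intro v hv
    rw [LinearMap.BilinForm.mem_orthogonal_iff]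
    intro u hu
    exact hU u hu v hv
  have h2 := LinearMap.BilinForm.finrank_orthogonal (sympBilin_nondegenerate (F := F) d) U
  have h3 := Submodule.finrank_mono h1
  rw [h2, finrank_V] at h3
  omega

theorem finrank_of_pair {P : Submodule F (Fin d ⊕ Fin d → F) × Submodule F (Fin d ⊕ Fin d → F)}
    (hP : IsPair d P) : finrank F P.1 = d ∧ finrank F P.2 = d := by
  have h := Submodule.finrank_add_eq_of_isCompl hP.1
  rw [finrank_V] at h
  have h1 := finrank_le_of_ti d P.1 hP.2.1
  have h2 := finrank_le_of_ti d P.2 hP.2.2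
  omega

theorem eq_zero_of_pair {P : Submodule F (Fin d ⊕ Fin d → F) × Submodule F (Fin d ⊕ Fin d → F)}
    (hP : IsPair d P) (w : Fin d ⊕ Fin d → F) (hw : w ∈ P.2)
    (h : ∀ u ∈ P.1, sympForm d F u w = 0) : w = 0 := by
  apply eq_zero_of_sympForm_right d w
  intro v
  have hv : v ∈ P.1 ⊔ P.2 := by rw [hP.1.sup_eq_top]; trivial
  obtain ⟨u, hu, w', hw', rfl⟩ := Submodule.mem_sup.1 hv
  rw [sympForm_swap, sympForm_add_left, h u hu, hP.2.2 w' hw' w hw, add_zero, neg_zero]

/-- the form vanishes on spans if it does on generators -/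
theorem form_span_eq_zero {S T : Set (Fin d ⊕ Fin d → F)}
    (h : ∀ u ∈ S, ∀ v ∈ T, sympForm d F u v = 0) :
    ∀ u ∈ Submodule.span F S, ∀ v ∈ Submodule.span F T, sympForm d F u v = 0 := by
  intro u hu v hv
  induction hu using Submodule.span_induction with
  | mem x hx =>
    induction hv using Submodule.span_induction with
    | mem y hy => exact h x hx y hy
    | zero => rw [← sympBilin_apply, map_zero]
    | add y z _ _ hy hz => rw [sympForm_add_right, hy, hz, add_zero]
    | smul a y _ hy => rw [sympForm_smul_right, hy, mul_zero]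
  | zero => rw [← sympBilin_apply, map_zero, LinearMap.zero_apply]
  | add y z _ _ hy hz => rw [sympForm_add_left, hy, hz, add_zero]
  | smul a y _ hy => rw [sympForm_smul_left, hy, mul_zero]

/-- the columns of a matrix -/
def cols (A : Matrix (Fin d ⊕ Fin d) (Fin d ⊕ Fin d) F) (k : Fin d ⊕ Fin d) : Fin d ⊕ Fin d → F :=
  A *ᵥ Pi.single k 1

theorem cols_apply (A : Matrix (Fin d ⊕ Fin d) (Fin d ⊕ Fin d) F) (k a : Fin d ⊕ Fin d) :
    cols d A k a = A a k := by
  unfold cols
  rw [mulVec_single_one]
  rfl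

theorem cols_eq_col (A : Matrix (Fin d ⊕ Fin d) (Fin d ⊕ Fin d) F) : cols d A = A.col := by
  funext k a
  exact cols_apply d A k a

/-- the Gram matrix of the standard basis -/
theorem std_gram (k l : Fin d ⊕ Fin d) :
    sympForm d F (Pi.single k 1) (Pi.single l 1) =
      match k, l with
      | Sum.inl _, Sum.inl _ => 0
      | Sum.inl i, Sum.inr j => if i = j then -1 else 0
      | Sum.inr i, Sum.inl j => if i = j then 1 else 0
      | Sum.inr _, Sum.inr _ => 0 := by
  rcases k with i | i <;> rcases l with j | j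
  · rw [sympForm_single_inl]; simp
  · rw [sympForm_single_inr]
    by_cases h : i = j
    · subst h; simp
    · simp [h, Ne.symm h]
  · rw [sympForm_single_inl]
    by_cases h : i = j
    · subst h; simp
    · simp [h, Ne.symm h]
  · rw [sympForm_single_inr]; simp

/-- a matrix whose columns have the standard Gram matrix is symplectic -/
theorem mem_symplectic_of_cols (A : Matrix (Fin d ⊕ Fin d) (Fin d ⊕ Fin d) F)
    (h : ∀ k l, sympForm d F (cols d A k) (cols d A l) =
      sympForm d F (Pi.single k 1) (Pi.single l 1)) :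
    A ∈ symplecticGroup (Fin d) F := by
  rw [SymplecticGroup.mem_iff']
  ext i j
  have := h i j
  unfold cols sympForm at this
  rw [← vecMul_transpose A, ← dotProduct_mulVec, mulVec_mulVec, mulVec_mulVec,
    mulVec_single_one, mulVec_single_one, single_dotProduct, single_dotProduct, one_mul, one_mul]
    at this
  exact this

theorem cols_gram (A : ↥(symplecticGroup (Fin d) F)) (k l : Fin d ⊕ Fin d) :
    sympForm d F (cols d (A : Matrix (Fin d ⊕ Fin d) (Fin d ⊕ Fin d) F) k)
      (cols d (A : Matrix (Fin d ⊕ Fin d) (Fin d ⊕ Fin d) F) l) =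
      sympForm d F (Pi.single k 1) (Pi.single l 1) :=
  sympForm_mulVec d A.2 _ _

theorem cols_linearIndependent (A : ↥(symplecticGroup (Fin d) F)) :
    LinearIndependent F (cols d (A : Matrix (Fin d ⊕ Fin d) (Fin d ⊕ Fin d) F)) := by
  rw [cols_eq_col]
  apply Matrix.linearIndependent_cols_of_isUnit
  rw [Matrix.isUnit_iff_isUnit_det]
  exact SymplecticGroup.symplectic_det A.2

theorem cols_span_top (A : ↥(symplecticGroup (Fin d) F)) :
    Submodule.span F (Set.range (cols d (A : Matrix (Fin d ⊕ Fin d) (Fin d ⊕ Fin d) F))) = ⊤ := by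
  apply (cols_linearIndependent d A).span_eq_top_of_card_eq_finrank'
  rw [finrank_V, Fintype.card_sum, Fintype.card_fin]

end Cfsg.Agent.Lib.Helper5.SpPairs
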