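import Mathlib
import Cfsg.Agent.Lib.Helper5.SpPairs.Basic

set_option autoImplicit false
open Cfsg

/-!
# The map from the symplectic group onto the polar pairs and its fibres
-/

namespace Cfsg.Agent.Lib.Helper5.SpPairs

open Matrix Module Cfsg.Agent.Lib.Helper5.SympTv Cfsg.Agent.Lib.Helper5.SympGen
  Cfsg.Agent.Lib.Helper5.SympBridge

variable {F : Type*} [Field F] (d : ℕ)

/-- the span of the left columns -/
def spanL (A : Matrix (Fin d ⊕ Fin d) (Fin d ⊕ Fin d) F) : Submodule F (Fin d ⊕ Fin d → F) :=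
  Submodule.span F (Set.range fun i : Fin d => cols d A (Sum.inl i))

/-- the span of the right columns -/
def spanR (A : Matrix (Fin d ⊕ Fin d) (Fin d ⊕ Fin d) F) : Submodule F (Fin d ⊕ Fin d → F) :=
  Submodule.span F (Set.range fun i : Fin d => cols d A (Sum.inr i))

theorem isPair_spans (A : ↥(symplecticGroup (Fin d) F)) :
    IsPair d (spanL d (A : Matrix (Fin d ⊕ Fin d) (Fin d ⊕ Fin d) F),
      spanR d (A : Matrix (Fin d ⊕ Fin d) (Fin d ⊕ Fin d) F)) := by
  refine ⟨⟨?_, ?_⟩, ?_, ?_⟩
  · have h := (cols_linearIndependent d A).disjoint_span_image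
      (s := Set.range Sum.inl) (t := Set.range Sum.inr) (by
        rw [Set.disjoint_left]
        rintro _ ⟨i, rfl⟩ ⟨j, hj⟩
        exact Sum.inr_ne_inl hj)
    rw [← Set.range_comp, ← Set.range_comp] at h
    exact h
  · rw [codisjoint_iff]
    unfold spanL spanR
    rw [← Submodule.span_union]
    have h : (Set.range fun i : Fin d => cols d (A : Matrix (Fin d ⊕ Fin d) (Fin d ⊕ Fin d) F) (Sum.inl i)) ∪
        (Set.range fun i : Fin d => cols d (A : Matrix (Fin d ⊕ Fin d) (Fin d ⊕ Fin d) F) (Sum.inr i)) =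
        Set.range (cols d (A : Matrix (Fin d ⊕ Fin d) (Fin d ⊕ Fin d) F)) := by
      rw [← Set.Sum.elim_range]
      congr 1
      funext k
      rcases k with k | k <;> rfl
    rw [h]
    exact cols_span_top d A
  · apply form_span_eq_zero
    rintro _ ⟨i, rfl⟩ _ ⟨j, rfl⟩
    show sympForm d F (cols d _ (Sum.inl i)) (cols d _ (Sum.inl j)) = 0
    rw [cols_gram, std_gram]
  · apply form_span_eq_zero
    rintro _ ⟨i, rfl⟩ _ ⟨j, rfl⟩
    show sympForm d F (cols d _ (Sum.inr i)) (cols d _ (Sum.inr j)) = 0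
    rw [cols_gram, std_gram]

/-- the map onto the polar pairs -/
def toPair (A : ↥(symplecticGroup (Fin d) F)) :
    {P : Submodule F (Fin d ⊕ Fin d → F) × Submodule F (Fin d ⊕ Fin d → F) // IsPair d P} :=
  ⟨(spanL d (A : Matrix (Fin d ⊕ Fin d) (Fin d ⊕ Fin d) F),
    spanR d (A : Matrix (Fin d ⊕ Fin d) (Fin d ⊕ Fin d) F)), isPair_spans d A⟩

theorem colL_mem (A : Matrix (Fin d ⊕ Fin d) (Fin d ⊕ Fin d) F) (i : Fin d) :
    cols d A (Sum.inl i) ∈ spanL d A :=
  Submodule.subset_span ⟨i, rfl⟩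

theorem colR_mem (A : Matrix (Fin d ⊕ Fin d) (Fin d ⊕ Fin d) F) (i : Fin d) :
    cols d A (Sum.inr i) ∈ spanR d A :=
  Submodule.subset_span ⟨i, rfl⟩

variable {d}

/-- the left columns as a tuple of the first subspace -/
def fibMap (P : {P : Submodule F (Fin d ⊕ Fin d → F) × Submodule F (Fin d ⊕ Fin d → F) // IsPair d P})
    (A : {A : ↥(symplecticGroup (Fin d) F) // toPair d A = P}) :
    {s : Fin d → ↥P.1.1 // LinearIndependent F s} :=
  ⟨fun i => ⟨cols d (A.1 : Matrix (Fin d ⊕ Fin d) (Fin d ⊕ Fin d) F) (Sum.inl i), by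
      have h : spanL d (A.1 : Matrix (Fin d ⊕ Fin d) (Fin d ⊕ Fin d) F) = P.1.1 :=
        congrArg (fun Q => Q.1.1) A.2
      rw [← h]
      exact colL_mem d _ i⟩, by
    apply LinearIndependent.of_comp P.1.1.subtype
    exact (cols_linearIndependent d A.1).comp Sum.inl Sum.inl_injective⟩

theorem fibMap_injective
    (P : {P : Submodule F (Fin d ⊕ Fin d → F) × Submodule F (Fin d ⊕ Fin d → F) // IsPair d P}) :
    Function.Injective (fibMap P) := by
  rintro ⟨A, hA⟩ ⟨B, hB⟩ h
  have hl : ∀ i, cols d (A : Matrix (Fin d ⊕ Fin d) (Fin d ⊕ Fin d) F) (Sum.inl i) =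
      cols d (B : Matrix (Fin d ⊕ Fin d) (Fin d ⊕ Fin d) F) (Sum.inl i) := by
    intro i
    have h1 := congrArg (fun s => ((s.1 i : ↥P.1.1) : Fin d ⊕ Fin d → F)) h
    exact h1
  have hA1 : spanL d (A : Matrix (Fin d ⊕ Fin d) (Fin d ⊕ Fin d) F) = P.1.1 := by
    rw [← hA]; rfl
  have hA2 : spanR d (A : Matrix (Fin d ⊕ Fin d) (Fin d ⊕ Fin d) F) = P.1.2 := by
    rw [← hA]; rfl
  have hB2 : spanR d (B : Matrix (Fin d ⊕ Fin d) (Fin d ⊕ Fin d) F) = P.1.2 := by
    rw [← hB]; rfl
  have hr : ∀ j, cols d (A : Matrix (Fin d ⊕ Fin d) (Fin d ⊕ Fin d) F) (Sum.inr j) =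
      cols d (B : Matrix (Fin d ⊕ Fin d) (Fin d ⊕ Fin d) F) (Sum.inr j) := by
    intro j
    rw [← sub_eq_zero]
    apply eq_zero_of_pair d P.2
    · apply Submodule.sub_mem
      · rw [← hA2]; exact colR_mem d _ j
      · rw [← hB2]; exact colR_mem d _ j
    · intro u hu
      rw [← hA1] at hu
      unfold spanL at hu
      induction hu using Submodule.span_induction with
      | mem x hx =>
        obtain ⟨i, rfl⟩ := hx
        show sympForm d F (cols d _ (Sum.inl i)) _ = 0
        rw [sympForm_sub_right, cols_gram, hl i, cols_gram, sub_self]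
      | zero => rw [← sympBilin_apply, map_zero, LinearMap.zero_apply]
      | add y z _ _ hy hz => rw [sympForm_add_left, hy, hz, add_zero]
      | smul a y _ hy => rw [sympForm_smul_left, hy, mul_zero]
  apply Subtype.ext
  apply Subtype.ext
  ext a k
  have e1 := cols_apply d (A : Matrix (Fin d ⊕ Fin d) (Fin d ⊕ Fin d) F) k a
  have e2 := cols_apply d (B : Matrix (Fin d ⊕ Fin d) (Fin d ⊕ Fin d) F) k a
  rw [← e1, ← e2]
  rcases k with k | k
  · rw [hl k]
  · rw [hr k]

theorem fibMap_surjective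
    (P : {P : Submodule F (Fin d ⊕ Fin d → F) × Submodule F (Fin d ⊕ Fin d → F) // IsPair d P}) :
    Function.Surjective (fibMap P) := by
  rintro ⟨s, hs⟩
  obtain ⟨hU, hW⟩ := finrank_of_pair d P.2
  set s' : Fin d → (Fin d ⊕ Fin d → F) := fun i => (s i : Fin d ⊕ Fin d → F) with hs'
  have hs'li : LinearIndependent F s' := hs.map' P.1.1.subtype (Submodule.ker_subtype _)
  have hspan : Submodule.span F (Set.range s') = P.1.1 := by
    apply Submodule.eq_of_le_of_finrank_eq
    · rw [Submodule.span_le]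
      rintro _ ⟨i, rfl⟩
      exact (s i).2
    · rw [finrank_span_eq_card hs'li, Fintype.card_fin, hU]
  -- the pairing map
  let φ : ↥P.1.2 →ₗ[F] (Fin d → F) :=
    LinearMap.pi (fun i => (sympBilin F d (s' i)).comp P.1.2.subtype)
  have hφ : ∀ (w : ↥P.1.2) i, φ w i = sympForm d F (s' i) (w : Fin d ⊕ Fin d → F) :=
    fun w i => rfl
  have hinj : Function.Injective φ := by
    rw [← LinearMap.ker_eq_bot, LinearMap.ker_eq_bot']
    intro w hw
    apply Subtype.ext
    apply eq_zero_of_pair d P.2 w w.2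
    intro u hu
    rw [← hspan] at hu
    induction hu using Submodule.span_induction with
    | mem x hx =>
      obtain ⟨i, rfl⟩ := hx
      rw [← hφ, hw]
      rfl
    | zero => rw [← sympBilin_apply, map_zero, LinearMap.zero_apply]
    | add y z _ _ hy hz => rw [sympForm_add_left, hy, hz, add_zero]
    | smul a y _ hy => rw [sympForm_smul_left, hy, mul_zero]
  have hfr : finrank F ↥P.1.2 = finrank F (Fin d → F) := by
    rw [hW, Module.finrank_fin_fun]
  let ε := LinearMap.linearEquivOfInjective φ hinj hfr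
  have hε : ∀ w, ε w = φ w := fun w => rfl
  set t : Fin d → (Fin d ⊕ Fin d → F) :=
    fun j => ((ε.symm (Pi.single j (-1)) : ↥P.1.2) : Fin d ⊕ Fin d → F) with ht'
  have htmem : ∀ j, t j ∈ P.1.2 := fun j => (ε.symm (Pi.single j (-1))).2
  have ht : ∀ i j, sympForm d F (s' i) (t j) = if i = j then -1 else 0 := by
    intro i j
    rw [← hφ, ← hε, LinearEquiv.apply_symm_apply, Pi.single_apply]
  -- the matrix
  set b : Fin d ⊕ Fin d → (Fin d ⊕ Fin d → F) := Sum.elim s' t with hb
  set A : Matrix (Fin d ⊕ Fin d) (Fin d ⊕ Fin d) F := Matrix.of (fun a k => b k a) with hAdef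
  have hcols : ∀ k, cols d A k = b k := by
    intro k
    funext a
    rw [cols_apply]
    rfl
  have hA : A ∈ symplecticGroup (Fin d) F := by
    apply mem_symplectic_of_cols
    intro k l
    rw [hcols, hcols, std_gram]
    rcases k with i | i <;> rcases l with j | j
    · exact P.2.2.1 _ (s i).2 _ (s j).2
    · exact ht i j
    · show sympForm d F (t i) (s' j) = _
      rw [sympForm_swap, ht j i]
      by_cases h : i = j
      · subst h; simp
      · simp [h, Ne.symm h]
    · exact P.2.2.2 _ (htmem i) _ (htmem j)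
  have hL : spanL d A = P.1.1 := by
    unfold spanL
    rw [← hspan]
    congr 2
    funext i
    exact hcols (Sum.inl i)
  have hR : spanR d A = P.1.2 := by
    unfold spanR
    have e : (fun i : Fin d => cols d A (Sum.inr i)) = t := by
      funext i
      exact hcols (Sum.inr i)
    rw [e]
    have htli : LinearIndependent F t := by
      rw [← e]
      exact (cols_linearIndependent d ⟨A, hA⟩).comp Sum.inr Sum.inr_injective
    apply Submodule.eq_of_le_of_finrank_eq
    · rw [Submodule.span_le]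
      rintro _ ⟨j, rfl⟩
      exact htmem j
    · rw [finrank_span_eq_card htli, Fintype.card_fin, hW]
  have hP : toPair d ⟨A, hA⟩ = P := by
    apply Subtype.ext
    exact Prod.ext hL hR
  refine ⟨⟨⟨A, hA⟩, hP⟩, ?_⟩
  apply Subtype.ext
  funext i
  apply Subtype.ext
  exact hcols (Sum.inl i)

theorem fibMap_bijective
    (P : {P : Submodule F (Fin d ⊕ Fin d → F) × Submodule F (Fin d ⊕ Fin d → F) // IsPair d P}) :
    Function.Bijective (fibMap P) :=
  ⟨fibMap_injective P, fibMap_surjective P⟩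

end Cfsg.Agent.Lib.Helper5.SpPairs
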