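import Mathlib
import Cfsg.Agent.Lib.Helper5.SpPairs.Fibre
import Cfsg.Agent.Lib.Helper5.SympCard

set_option autoImplicit false
open Cfsg

/-!
# The number of polar pairs
-/

namespace Cfsg.Agent.Lib.Helper5.SpPairs

open Matrix Module Cfsg.Agent.Lib.Helper5.SympTv Cfsg.Agent.Lib.Helper5.SympGen
  Cfsg.Agent.Lib.Helper5.SympBridge

variable {F : Type*} [Field F] [Fintype F] (d : ℕ)

theorem card_pairs_mul :
    Nat.card {P : Submodule F (Fin d ⊕ Fin d → F) × Submodule F (Fin d ⊕ Fin d → F) // IsPair d P} *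
      ∏ i : Fin d, (Fintype.card F ^ d - Fintype.card F ^ (i : ℕ)) =
      Nat.card ↥(symplecticGroup (Fin d) F) := by
  classical
  have : Fintype {P : Submodule F (Fin d ⊕ Fin d → F) × Submodule F (Fin d ⊕ Fin d → F) //
    IsPair d P} := Fintype.ofFinite _
  have e := Equiv.sigmaFiberEquiv (toPair (F := F) d)
  rw [← Nat.card_congr e, Nat.card_sigma]
  have h : ∀ P : {P : Submodule F (Fin d ⊕ Fin d → F) × Submodule F (Fin d ⊕ Fin d → F) //
      IsPair d P}, Nat.card {A : ↥(symplecticGroup (Fin d) F) // toPair d A = P} =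
      ∏ i : Fin d, (Fintype.card F ^ d - Fintype.card F ^ (i : ℕ)) := by
    intro P
    have hU := (finrank_of_pair d P.2).1
    rw [Nat.card_eq_of_bijective _ (fibMap_bijective P), card_linearIndependent (by rw [hU]), hU]
  simp_rw [h]
  rw [Finset.sum_const, Finset.card_univ, smul_eq_mul, Nat.card_eq_fintype_card]

theorem card_pairs_formula {q : ℕ} (hq : Fintype.card F = q) :
    Nat.card {P : Submodule F (Fin d ⊕ Fin d → F) × Submodule F (Fin d ⊕ Fin d → F) // IsPair d P} *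
      ∏ i ∈ Finset.range d, q ^ i = q ^ (d ^ 2) * ∏ i ∈ Finset.range d, (q ^ (i + 1) + 1) := by
  have h1 := card_pairs_mul (F := F) d
  rw [Cfsg.Agent.Lib.Helper5.SympCard.card_symplecticGroup, hq] at h1
  have hq2 : 2 ≤ q := by
    rw [← hq]
    exact Fintype.one_lt_card
  have hpow : ∀ k, 1 ≤ q ^ k := fun k => Nat.one_le_pow _ _ (by omega)
  have hG : ∏ i : Fin d, (q ^ d - q ^ (i : ℕ)) =
      (∏ i ∈ Finset.range d, q ^ i) * ∏ i ∈ Finset.range d, (q ^ (i + 1) - 1) := by
    rw [Fin.prod_univ_eq_prod_range (fun i => q ^ d - q ^ i) d,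
      ← Finset.prod_range_reflect (fun i => q ^ (i + 1) - 1) d, ← Finset.prod_mul_distrib]
    apply Finset.prod_congr rfl
    intro i hi
    rw [Finset.mem_range] at hi
    have e : d - 1 - i + 1 = d - i := by omega
    rw [e, Nat.mul_sub, mul_one, ← pow_add]
    congr 2
    omega
  have hS : ∏ i ∈ Finset.range d, (q ^ (2 * (i + 1)) - 1) =
      (∏ i ∈ Finset.range d, (q ^ (i + 1) - 1)) * ∏ i ∈ Finset.range d, (q ^ (i + 1) + 1) := by
    rw [← Finset.prod_mul_distrib]
    apply Finset.prod_congr rfl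
    intro i _
    obtain ⟨c, hc⟩ : ∃ c, q ^ (i + 1) = c + 1 := ⟨q ^ (i + 1) - 1, by have := hpow (i + 1); omega⟩
    rw [mul_comm 2, pow_mul, hc, Nat.add_sub_cancel]
    have : (c + 1) ^ 2 = c * (c + 1 + 1) + 1 := by ring
    rw [this, Nat.add_sub_cancel]
  rw [hG, hS] at h1
  have hpos : 0 < ∏ i ∈ Finset.range d, (q ^ (i + 1) - 1) := by
    apply Finset.prod_pos
    intro i _
    have : 2 ≤ q ^ (i + 1) := by
      calc 2 ≤ q := hq2
        _ = q ^ 1 := (pow_one q).symm
        _ ≤ q ^ (i + 1) := Nat.pow_le_pow_right (by omega) (by omega)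
    omega
  apply Nat.eq_of_mul_eq_mul_right hpos
  rw [mul_assoc, h1]
  ring

theorem exists_dvd_of_dvd_half {q : ℕ} (hq : Fintype.card F = q) (hodd : Odd q) (hd : 1 ≤ d)
    (r : ℕ) (hr : r.Prime) (hrq : ¬ r ∣ q)
    (h : r ∣ Nat.card {P : Submodule F (Fin d ⊕ Fin d → F) × Submodule F (Fin d ⊕ Fin d → F) //
      IsPair d P} / 2) :
    ∃ j, 1 ≤ j ∧ j ≤ d ∧ r ∣ q ^ j + 1 := by
  have hf := card_pairs_formula (F := F) d hq
  set N := Nat.card {P : Submodule F (Fin d ⊕ Fin d → F) × Submodule F (Fin d ⊕ Fin d → F) //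
      IsPair d P} with hN
  have hQodd : Odd (∏ i ∈ Finset.range d, q ^ i) := by
    apply Finset.prod_induction _ Odd
    · intro a b ha hb
      exact ha.mul hb
    · exact odd_one
    · intro i _
      exact hodd.pow
  have h2 : 2 ∣ N := by
    have h3 : 2 ∣ N * ∏ i ∈ Finset.range d, q ^ i := by
      rw [hf]
      apply Dvd.dvd.mul_left
      apply Dvd.dvd.trans _ (Finset.dvd_prod_of_mem _ (Finset.mem_range.mpr hd))
      have : Odd (q ^ (0 + 1)) := hodd.pow
      exact (this.add_odd odd_one).two_dvd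
    rcases (Nat.Prime.dvd_mul Nat.prime_two).mp h3 with h4 | h4
    · exact h4
    · exact absurd (even_iff_two_dvd.mpr h4) (Nat.not_even_iff_odd.mpr hQodd)
  have hrN : r ∣ N := by
    obtain ⟨c, hc⟩ := h2
    rw [hc, Nat.mul_div_cancel_left c (by norm_num)] at h
    rw [hc]
    exact Dvd.dvd.mul_left h 2
  have h5 : r ∣ q ^ (d ^ 2) * ∏ i ∈ Finset.range d, (q ^ (i + 1) + 1) := by
    rw [← hf]
    exact Dvd.dvd.mul_right hrN _
  rcases (Nat.Prime.dvd_mul hr).mp h5 with h6 | h6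
  · exact absurd (hr.dvd_of_dvd_pow h6) hrq
  · obtain ⟨i, hi, hri⟩ := (Prime.dvd_finsetProd_iff hr.prime _).mp h6
    rw [Finset.mem_range] at hi
    exact ⟨i + 1, by omega, by omega, hri⟩

end Cfsg.Agent.Lib.Helper5.SpPairs
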