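import Mathlib

set_option autoImplicit false

/-!
# An invariant pair of complementary totally isotropic subspaces forces a square factor
-/

namespace Cfsg.Agent.Lib.Helper5.SpPairs

open Module Polynomial

section
variable {F : Type*} [Field F] {V : Type*} [AddCommGroup V] [Module F V]

theorem aeval_mem_of_invariant (g : End F V) (U : Submodule F V) (hU : ∀ u ∈ U, g u ∈ U)
    (P : F[X]) : ∀ u ∈ U, aeval g P u ∈ U := by
  induction P using Polynomial.induction_on with
  | C a =>
    intro u hu
    rw [aeval_C, Module.algebraMap_end_apply]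
    exact U.smul_mem a hu
  | add p q hp hq =>
    intro u hu
    rw [map_add, LinearMap.add_apply]
    exact U.add_mem (hp u hu) (hq u hu)
  | monomial n a h =>
    intro u hu
    rw [pow_succ, ← mul_assoc, map_mul, aeval_X, Module.End.mul_apply]
    exact h (g u) (hU u hu)

theorem aeval_restrict_coe (g : End F V) (U : Submodule F V) (hU : ∀ u ∈ U, g u ∈ U)
    (P : F[X]) : ∀ x : U, ((aeval (g.restrict hU) P x : U) : V) = aeval g P (x : V) := by
  induction P using Polynomial.induction_on with
  | C a =>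
    intro x
    rw [aeval_C, aeval_C, Module.algebraMap_end_apply, Module.algebraMap_end_apply]
    rfl
  | add p q hp hq =>
    intro x
    rw [map_add, map_add, LinearMap.add_apply, LinearMap.add_apply, Submodule.coe_add, hp, hq]
  | monomial n a h =>
    intro x
    have e1 : aeval (g.restrict hU) (C a * X ^ (n + 1)) =
        aeval (g.restrict hU) (C a * X ^ n) * g.restrict hU := by
      rw [pow_succ, ← mul_assoc, map_mul, aeval_X]
    have e2 : aeval g (C a * X ^ (n + 1)) = aeval g (C a * X ^ n) * g := by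
      rw [pow_succ, ← mul_assoc, map_mul, aeval_X]
    rw [e1, e2, Module.End.mul_apply, Module.End.mul_apply, h]
    rfl

variable [FiniteDimensional F V]

theorem dvd_charpoly_restrict (g : End F V) (U : Submodule F V) (hU : ∀ u ∈ U, g u ∈ U)
    {f : F[X]} (hf : Irreducible f) (x : V) (hxU : x ∈ U) (hx0 : x ≠ 0)
    (hx : aeval g f x = 0) : f ∣ (g.restrict hU).charpoly := by
  apply dvd_trans _ (LinearMap.minpoly_dvd_charpoly (g.restrict hU))
  rw [hf.dvd_iff_not_isCoprime]
  rintro ⟨a, b, hab⟩
  have h1 := congrArg (fun P => aeval (g.restrict hU) P (⟨x, hxU⟩ : U)) hab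
  simp only [map_add, map_mul, minpoly.aeval, mul_zero, add_zero, map_one, Module.End.mul_apply,
    Module.End.one_apply] at h1
  have h2 : aeval (g.restrict hU) f (⟨x, hxU⟩ : U) = 0 := by
    apply Subtype.ext
    rw [aeval_restrict_coe]
    exact hx
  rw [h2, map_zero] at h1
  apply hx0
  exact congrArg Subtype.val h1.symm

theorem charpoly_eq_mul_of_isCompl (g : End F V) (U W : Submodule F V) (hUW : IsCompl U W)
    (hU : ∀ u ∈ U, g u ∈ U) (hW : ∀ w ∈ W, g w ∈ W) :
    g.charpoly = (g.restrict hU).charpoly * (g.restrict hW).charpoly := by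
  let e := Submodule.prodEquivOfIsCompl U W hUW
  have hψ : (g.restrict hU).prodMap (g.restrict hW) = e.symm.conj g := by
    apply LinearMap.ext
    rintro ⟨u, w⟩
    rw [LinearEquiv.conj_apply]
    simp only [LinearMap.coe_comp, LinearEquiv.coe_coe, Function.comp_apply,
      LinearEquiv.symm_symm]
    rw [LinearEquiv.eq_symm_apply]
    simp only [e, Submodule.coe_prodEquivOfIsCompl', LinearMap.prodMap_apply,
      LinearMap.coe_restrict_apply, map_add]
  rw [← e.symm.charpoly_conj g, ← hψ, LinearMap.charpoly_prodMap]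

/-- an invariant pair of complementary totally isotropic subspaces forces a square factor -/
theorem sq_dvd_charpoly (g : End F V) (β : V → V → F) {f : F[X]} (hf : Irreducible f)
    (hK : ∀ v, aeval g f v = 0 → (∀ w, aeval g f w = 0 → β w v = 0) → v = 0)
    (hne : ∃ x : V, x ≠ 0 ∧ aeval g f x = 0)
    (U W : Submodule F V) (hUW : IsCompl U W) (hU : ∀ u ∈ U, g u ∈ U) (hW : ∀ w ∈ W, g w ∈ W)
    (hUti : ∀ u ∈ U, ∀ v ∈ U, β u v = 0) (hWti : ∀ u ∈ W, ∀ v ∈ W, β u v = 0) :
    f * f ∣ g.charpoly := by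
  have hUP := aeval_mem_of_invariant g U hU f
  have hWP := aeval_mem_of_invariant g W hW f
  have hdec : ∀ v, aeval g f v = 0 →
      ∃ u ∈ U, ∃ w ∈ W, v = u + w ∧ aeval g f u = 0 ∧ aeval g f w = 0 := by
    intro v hv
    have hv' : v ∈ U ⊔ W := by rw [hUW.sup_eq_top]; trivial
    obtain ⟨u, hu, w, hw, rfl⟩ := Submodule.mem_sup.1 hv'
    rw [map_add] at hv
    have h1 : aeval g f u ∈ U ⊓ W := by
      refine ⟨hUP u hu, ?_⟩
      rw [eq_neg_of_add_eq_zero_left hv]
      exact W.neg_mem (hWP w hw)
    rw [hUW.inf_eq_bot, Submodule.mem_bot] at h1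
    rw [h1, zero_add] at hv
    exact ⟨u, hu, w, hw, rfl, h1, hv⟩
  have hexU : ∃ u ∈ U, u ≠ 0 ∧ aeval g f u = 0 := by
    by_contra hcon
    push Not at hcon
    have hKW : ∀ v, aeval g f v = 0 → v ∈ W := by
      intro v hv
      obtain ⟨u, hu, w, hw, rfl, hfu, hfw⟩ := hdec v hv
      have : u = 0 := by
        by_contra h0
        exact hcon u hu h0 hfu
      rw [this, zero_add]
      exact hw
    obtain ⟨x, hx0, hx⟩ := hne
    exact hx0 (hK x hx fun w hw => hWti w (hKW w hw) x (hKW x hx))
  have hexW : ∃ w ∈ W, w ≠ 0 ∧ aeval g f w = 0 := by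
    by_contra hcon
    push Not at hcon
    have hKU : ∀ v, aeval g f v = 0 → v ∈ U := by
      intro v hv
      obtain ⟨u, hu, w, hw, rfl, hfu, hfw⟩ := hdec v hv
      have : w = 0 := by
        by_contra h0
        exact hcon w hw h0 hfw
      rw [this, add_zero]
      exact hu
    obtain ⟨x, hx0, hx⟩ := hne
    exact hx0 (hK x hx fun w hw => hUti w (hKU w hw) x (hKU x hx))
  obtain ⟨u, hu, hu0, hfu⟩ := hexU
  obtain ⟨w, hw, hw0, hfw⟩ := hexW
  rw [charpoly_eq_mul_of_isCompl g U W hUW hU hW]
  exact mul_dvd_mul (dvd_charpoly_restrict g U hU hf u hu hu0 hfu)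
    (dvd_charpoly_restrict g W hW hf w hw hw0 hfw)

end

end Cfsg.Agent.Lib.Helper5.SpPairs
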