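import Mathlib
import Cfsg.Agent.Lib.Helper5.SpPairs.Count
import Cfsg.Agent.Lib.Helper5.SpPairs.NoFix
import Cfsg.Agent.Lib.Helper5.QuadSign.Main
import Cfsg.Agent.Lib.Helper5.SemiCount.SpPrime
import Cfsg.Agent.Lib.Helper5.SemiConj.Sp

set_option autoImplicit false
open Cfsg

/-!
# A derangement of odd prime order on the polar pairs
-/

namespace Cfsg.Agent.Lib.Helper5.SpPairs

open Matrix Module Polynomial
open Cfsg.Agent.Lib.Helper5.SympTv Cfsg.Agent.Lib.Helper5.SympGen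
  Cfsg.Agent.Lib.Helper5.SympBridge Cfsg.Agent.Lib.Helper5.SemiConj
  Cfsg.Agent.Lib.Helper5.SemiCount Cfsg.Agent.Lib.Helper5.OrthPrime
  Cfsg.Agent.Lib.Helper5.QuadSign Cfsg.Agent.Lib.Helper4.PrimeOrd

universe u

section
variable {F : Type u} [Field F]

theorem not_dvd_linear {f : F[X]} (hf : 2 ≤ f.natDegree) (z : F) : ¬ f ∣ X - C z := by
  intro h
  have := Polynomial.natDegree_le_of_dvd h (X_sub_C_ne_zero z)
  rw [natDegree_X_sub_C] at this
  omega

/-- an odd power of a swapping map swaps -/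
theorem map_pow_odd {V : Type*} [AddCommGroup V] [Module F V] (L : End F V)
    (U W : Submodule F V) (h1 : U.map L = W) (h2 : W.map L = U) (n : ℕ) :
    U.map (L ^ (2 * n + 1)) = W := by
  induction n with
  | zero => rw [mul_zero, zero_add, pow_one]; exact h1
  | succ n ih =>
    have e : L ^ (2 * (n + 1) + 1) = (L ^ (2 * n + 1)).comp (L.comp L) := by
      rw [show 2 * (n + 1) + 1 = 2 * n + 1 + 2 by ring, pow_add, pow_two]
      rfl
    rw [e, Submodule.map_comp, Submodule.map_comp, h1, h2, ih]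

end

section main
variable {F : Type u} [Field F] [Fintype F] (p : ℕ) [Fact p.Prime] [CharP F p]

include p in
theorem exists_derangement {q : ℕ} (hq : Fintype.card F = q) (d : ℕ) (hd : 1 ≤ d) (hodd : Odd q)
    (r : ℕ) (hr : r.Prime) (hr2 : r ≠ 2) (hrp : r ≠ p)
    (hΩ : r ∣ Nat.card {P : Submodule F (Fin d ⊕ Fin d → F) × Submodule F (Fin d ⊕ Fin d → F) //
      IsPair d P} / 2) :
    ∃ x : ↥(symplecticGroup (Fin d) F), x ^ r = 1 ∧
      (∀ z : F, (x : Matrix (Fin d ⊕ Fin d) (Fin d ⊕ Fin d) F) ≠ z • 1) ∧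
      ¬ ∃ U W : Submodule F (Fin d ⊕ Fin d → F), IsCompl U W ∧
        (∀ u ∈ U, ∀ v ∈ U, sympForm d F u v = 0) ∧ (∀ u ∈ W, ∀ v ∈ W, sympForm d F u v = 0) ∧
        ((U.map (Matrix.toLin' (x : Matrix (Fin d ⊕ Fin d) (Fin d ⊕ Fin d) F)) = U ∧
          W.map (Matrix.toLin' (x : Matrix (Fin d ⊕ Fin d) (Fin d ⊕ Fin d) F)) = W) ∨
         (U.map (Matrix.toLin' (x : Matrix (Fin d ⊕ Fin d) (Fin d ⊕ Fin d) F)) = W ∧
          W.map (Matrix.toLin' (x : Matrix (Fin d ⊕ Fin d) (Fin d ⊕ Fin d) F)) = U)) := by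
  classical
  have hp : p.Prime := Fact.out
  have : Fact r.Prime := ⟨hr⟩
  -- `r` does not divide `q`
  have hrq : ¬ r ∣ q := by
    obtain ⟨k, -, hk⟩ := FiniteField.card F p
    rw [← hq, hk]
    intro h
    exact hrp ((Nat.prime_dvd_prime_iff_eq hr hp).mp (hr.dvd_of_dvd_pow h))
  have hqr : (q : ZMod r) ≠ 0 := by
    rw [Ne, ZMod.natCast_eq_zero_iff]
    exact hrq
  obtain ⟨j, hj1, hjd, hrj⟩ := exists_dvd_of_dvd_half (F := F) d hq hodd hd r hr hrq hΩ
  -- the order of `q` modulo `r`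
  set i := orderOf (q : ZMod r) with hi
  have hev : Even i := (exists_dvd_pow_add_one_iff hr2 q hqr).1 ⟨j, hrj⟩
  have hidvd : i ∣ 2 * j := by
    apply orderOf_dvd_of_pow_eq_one
    have h1 : ((q ^ j + 1 : ℕ) : ZMod r) = 0 := (ZMod.natCast_eq_zero_iff _ _).mpr hrj
    push_cast at h1
    have h2 : (q : ZMod r) ^ j = -1 := eq_neg_of_add_eq_zero_left h1
    rw [mul_comm, pow_mul, h2, neg_one_sq]
  have hipos : 0 < i := Nat.pos_of_dvd_of_pos hidvd (by omega)
  have hi2d : i ≤ d + d := by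
    have := Nat.le_of_dvd (by omega) hidvd
    omega
  have hi2 : 2 ≤ i := by
    obtain ⟨k, hk⟩ := hev
    omega
  obtain ⟨t, ht⟩ : ∃ t, t * i = r - 1 :=
    ⟨(r - 1) / i, Nat.div_mul_cancel (ZMod.orderOf_dvd_card_sub_one hqr)⟩
  obtain ⟨r0, -, ht1, f, H, π, hπi, hπ, hπev, -⟩ :=
    family_setup p hq r i t hr hr2 hrp hi ht
  have hπid : π = id := hπev hev
  subst hπid
  -- the element
  let j₀ : Fin t := ⟨0, ht1⟩
  let c : Fin t → ℕ := Pi.single j₀ 1
  have hsum : ∑ j, c j = 1 := by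
    simp only [c]
    rw [Finset.sum_pi_single']
    simp
  obtain ⟨g, hg, hgc⟩ := exists_symp_Pc p H id hπi hπ c (m := d)
    (by rw [hsum, mul_one]; exact hi2d) (fun _ => rfl) (by rw [hsum, mul_one]; exact hev)
  have hprod : ∏ j, f j ^ c j = f j₀ := by
    rw [Fintype.prod_eq_single j₀ (fun j hj => by
      simp only [c]
      rw [Pi.single_eq_of_ne hj, pow_zero])]
    simp only [c]
    rw [Pi.single_eq_same, pow_one]
  have hchar : (g : Matrix (Fin d ⊕ Fin d) (Fin d ⊕ Fin d) F).charpoly =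
      (X - C 1) ^ (d + d - i) * f j₀ := by
    rw [← spToGL_charpoly, hgc]
    unfold Pc
    rw [hprod, hsum, mul_one]
  have hdeg : 2 ≤ (f j₀).natDegree := by rw [H.deg j₀]; exact hi2
  have hgr : g ^ r = 1 := by
    apply spToGL_injective d
    rw [map_pow, map_one]
    exact gl_pow_eq_one_of_Pc p H (spToGL d g)
      (by rw [orderOf_injective (spToGL d) (spToGL_injective d) g]; exact hg) c hgc
  have hfprime : Prime (f j₀) := (H.irr j₀).prime
  refine ⟨g, hgr, ?_, ?_⟩
  · -- not a scalar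
    intro z hz
    have h1 : f j₀ ∣ (g : Matrix (Fin d ⊕ Fin d) (Fin d ⊕ Fin d) F).charpoly := by
      rw [hchar]
      exact Dvd.intro_left _ rfl
    rw [hz, Matrix.smul_one_eq_diagonal, Matrix.charpoly_diagonal] at h1
    obtain ⟨k, -, hk⟩ := (Prime.dvd_finsetProd_iff hfprime _).mp h1
    exact not_dvd_linear hdeg z hk
  · rintro ⟨U, W, hUW, hU, hW, hcase⟩
    set L := Matrix.toLin' (g : Matrix (Fin d ⊕ Fin d) (Fin d ⊕ Fin d) F) with hL
    rcases hcase with ⟨h1, h2⟩ | ⟨h1, h2⟩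
    · -- an invariant pair
      have hUinv : ∀ u ∈ U, L u ∈ U := by
        intro u hu
        have := Submodule.mem_map_of_mem (f := L) hu
        rwa [h1] at this
      have hWinv : ∀ w ∈ W, L w ∈ W := by
        intro w hw
        have := Submodule.mem_map_of_mem (f := L) hw
        rwa [h2] at this
      obtain ⟨r', hr'⟩ := exists_inv_X_of_coeff_zero (fam_coeff_zero_ne H j₀)
      have hsd : f j₀ ∣ ((f j₀).map (RingHom.id F)).comp r' :=
        sd_of_star_eq (RingHom.id F) (fam_coeff_zero_ne H j₀) (hπ j₀) hr'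
      have hND := (sympData p d g hg).nondeg_ker_of_sd hr' hsd
      have hne : ∃ x : Fin d ⊕ Fin d → F, x ≠ 0 ∧ aeval L (f j₀) x = 0 := by
        apply exists_ne_zero_of_dvd_charpoly L (H.irr j₀)
        rw [hL, Matrix.charpoly_toLin', hchar]
        exact Dvd.intro_left _ rfl
      have hsq := sq_dvd_charpoly L (fun u v => sympForm d F u v) (H.irr j₀)
        (fun v hv h => hND v (LinearMap.mem_ker.2 hv)
          (fun w hw => h w (LinearMap.mem_ker.1 hw))) hne U W hUW hUinv hWinv hU hW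
      rw [hL, Matrix.charpoly_toLin', hchar] at hsq
      have h3 : f j₀ ∣ (X - C 1) ^ (d + d - i) :=
        (mul_dvd_mul_iff_right (H.irr j₀).ne_zero).mp hsq
      exact not_dvd_linear hdeg 1 (hfprime.dvd_of_dvd_pow h3)
    · -- a swapped pair
      obtain ⟨n, hn⟩ := hr.odd_of_ne_two hr2
      have h3 := map_pow_odd L U W h1 h2 n
      have hLr : L ^ r = 1 := by
        rw [hL, ← Matrix.toLin'_pow, ← symp_coe_pow, hgr]
        exact Matrix.toLin'_one
      rw [← hn, hLr, Module.End.one_eq_id, Submodule.map_id] at h3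
      rw [h3] at hUW
      have h4 : W = ⊥ := by
        have := hUW.inf_eq_bot
        rwa [inf_idem] at this
      have h5 : W = ⊤ := by
        have := hUW.sup_eq_top
        rwa [sup_idem] at this
      have : Nonempty (Fin d ⊕ Fin d) := ⟨Sum.inl ⟨0, hd⟩⟩
      exact bot_ne_top (α := Submodule F (Fin d ⊕ Fin d → F)) (h4.symm.trans h5)

end main

end Cfsg.Agent.Lib.Helper5.SpPairs
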